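import Mathlib
import Cfsg.Agent.H687.Theta
import Cfsg.Agent.Nodes.NormX
import Cfsg.Agent.KFacts.RgdAutFacts

/-!
# `Good p` for groups with a root group datum (helper443)

`R : RGD cs h p T n X`, `L : Long R θ Z` a subgroup of the root group of a dominant root, `z : F → Z` coordinates.

* `exists_neg` : `w θ = -θ` for some `w`;
* `exists_frame_aut` : every automorphism is an inner automorphism times an automorphism permuting the `X_{±α_i}`;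
* `eq_one_of_opp` : an element of `X (-θ)` normalising `Z` is trivial;
* `rk1_root` : the rank one axiom for every root;
* `rgd_good` : `Good p Y` (from `H687.theta_good`) from torus elements acting by powers.
-/

set_option autoImplicit false
set_option linter.unusedSectionVars false

namespace Cfsg.Agent.H443.RgdTheta

open CoxeterSystem Cfsg.Agent.ChevalleyStructure.CoxeterGeom Cfsg.Agent.Tits.Roots Cfsg.Agent.Tits.Core
  Cfsg.Agent.Tits.Exchange Cfsg.Agent.Nodes.Reps Cfsg.Agent.Nodes.BNOf Cfsg.Agent.Nodes.StabComb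
  Cfsg.Agent.Nodes.Bruhat Cfsg.Agent.Nodes.OppDec Cfsg.Agent.Nodes.LeviDec Cfsg.Agent.Nodes.NormX
  Cfsg.Agent.KFacts.RgdOpp Cfsg.Agent.KFacts.RgdAut Cfsg.Agent.KFacts.RgdDiag Cfsg.Agent.KFacts.RgdAutFacts
  Cfsg.Agent.H687

variable {I W Y : Type*} [Fintype I] [DecidableEq I] [Group W] [Group Y] {M : CoxeterMatrix I}
  {cs : CoxeterSystem M W} {A : I → I → ℤ} {h : IsCartan M A} {p : ℕ} {T : Subgroup Y} {n : I → Y}
  {X : (I → ℤ) → Subgroup Y}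

/-- `w θ = -θ` for some `w` -/
theorem exists_neg {θ : I → ℤ} (hθ : IsRoot cs h θ) : ∃ w : W, rep cs h w θ = -θ := by
  obtain ⟨w, i, rfl⟩ := hθ
  refine ⟨w * cs.simple i * w⁻¹, ?_⟩
  rw [← rep_mul_apply, mul_assoc, inv_mul_cancel, mul_one, rep_mul_apply, rep_simple_sr, map_neg]

/-- An automorphism is inner times one permuting the groups `X_{±α_i}`. -/
theorem exists_frame_aut [Finite W] [Finite Y] [Fact p.Prime] (R : RGD cs h p T n X) (hG : GG cs h T X = ⊤)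
    (φ : MulAut Y) :
    ∃ (g : Y) (σ : Equiv.Perm I), Fix (MulAut.conj g * φ) (RGD.Sup X (RGD.Pos cs h)) ∧
      Diag T X (MulAut.conj g * φ) σ := by
  obtain ⟨S₀, hS₀⟩ := exists_sylow R hG
  -- `φ U` is a Sylow subgroup
  obtain ⟨g, hg⟩ := sylow_eq_cj R hG (S₀.comapOfInjective (φ⁻¹ : MulAut Y).toMonoidHom
    (φ⁻¹ : MulAut Y).injective (fun y _ => ⟨φ y, MulAut.inv_apply_self _ φ y⟩))
  have hmem : ∀ y, y ∈ RGD.Sup X (RGD.Pos cs h) ↔ g⁻¹ * φ y * g ∈ RGD.Sup X (RGD.Pos cs h) := by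
    intro y
    have h1 : φ y ∈ cj g (RGD.Sup X (RGD.Pos cs h)) ↔ φ y ∈ ((S₀.comapOfInjective (φ⁻¹ : MulAut Y).toMonoidHom
      (φ⁻¹ : MulAut Y).injective (fun y _ => ⟨φ y, MulAut.inv_apply_self _ φ y⟩) : Sylow p Y) : Subgroup Y) := by
      rw [hg]
    rw [mem_cj] at h1
    rw [h1, ← hS₀]
    show _ ↔ φ⁻¹ (φ y) ∈ (S₀ : Subgroup Y)
    rw [MulAut.inv_apply_self]
  have hα : Fix (MulAut.conj g⁻¹ * φ) (RGD.Sup X (RGD.Pos cs h)) := by
    intro y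
    rw [MulAut.mul_apply, MulAut.conj_apply, inv_inv, ← hmem]
  obtain ⟨u, -, hU, -, hUN, -, -⟩ := exists_frame R hG hα
  obtain ⟨σ, hσ⟩ := exists_diag R hG hU hUN
  refine ⟨u * g⁻¹, σ, ?_, ?_⟩
  · rw [map_mul, mul_assoc]; exact hU
  · rw [map_mul, mul_assoc]; exact hσ

/-- The rank one axiom for every root. -/
theorem rk1_root (R : RGD cs h p T n X) {θ : I → ℤ} (hθ : IsRoot cs h θ) {u : Y} (hu : u ∈ X (-θ)) (hu1 : u ≠ 1) :
    ∃ v ∈ X θ, ∃ w k, Rp cs R.nsys w k ∧ rep cs h w θ = -θ ∧ ∃ v' ∈ X θ, u = v * k * v' := by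
  obtain ⟨w, i, rfl⟩ := hθ
  obtain ⟨g, hg⟩ := exists_rp cs R.nsys w
  have h1 : g⁻¹ * u * g ∈ X (-sr i) := by
    have h2 := R.conj_mem' hg ((isRoot_sr cs h i).act w).neg hu
    rwa [map_neg, rep_inv_apply] at h2
  have h2 : g⁻¹ * u * g ≠ 1 := by
    intro h3
    apply hu1
    have : u = g * (g⁻¹ * u * g) * g⁻¹ := by group
    rw [this, h3]; group
  obtain ⟨a, ha, t, ht, b, hb, e⟩ := R.rk1 i _ h1 h2
  refine ⟨g * a * g⁻¹, R.conj_mem hg (isRoot_sr cs h i) ha, w * cs.simple i * w⁻¹, g * (t * n i) * g⁻¹, ?_, ?_,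
    g * b * g⁻¹, R.conj_mem hg (isRoot_sr cs h i) hb, ?_⟩
  · have h3 : Rp cs R.nsys (cs.simple i) (t * n i) := by
      have := (rp_of_mem (cs := cs) (hN := R.nsys) ht).mul (rp_simple cs R.nsys i)
      rwa [one_mul] at this
    exact (hg.mul h3).mul hg.inv
  · rw [← rep_mul_apply, mul_assoc, inv_mul_cancel, mul_one, rep_mul_apply, rep_simple_sr, map_neg]
  · have : u = g * (g⁻¹ * u * g) * g⁻¹ := by group
    rw [this, e]; group

/-- An element of the opposite root group normalising `Z` is trivial. -/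
theorem eq_one_of_opp [Finite W] {R : RGD cs h p T n X} {θ : I → ℤ} {Z : Subgroup Y} (L : Long R θ Z) {u : Y}
    (huG : u ∈ GG cs h T X) (hu : u ∈ X (-θ)) (hn : u ∈ Subgroup.normalizer (Z : Set Y)) : u = 1 := by
  have := Fintype.ofFinite W
  have h1 : u ∈ PJ cs h T X (orth cs h θ) := by
    rw [← L.normalizer_inf_GG]; exact ⟨hn, huG⟩
  refine eq_one_of_mem_VNJ_of_mem_PJ R (J := orth cs h θ) ?_ h1
  refine RGD.le_Sup (S := {x | -x ∈ NotJ cs h (orth cs h θ)}) ?_ hu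
  show - -θ ∈ NotJ cs h (orth cs h θ)
  rw [neg_neg, mem_NotJ_iff L.dom L.root]
  exact form_pos cs h L.root.ne_zero

section

variable {F : Type*} {z : F → Y} {Z : Subgroup Y}

theorem nrm_of_mem (hZ : ∀ y, y ∈ Z ↔ ∃ a, z a = y) {g : Y} (hg : g ∈ Subgroup.normalizer (Z : Set Y)) : Nrm z g := by
  intro a
  have h1 := (Subgroup.mem_normalizer_iff.1 hg (z a)).1 ((hZ _).2 ⟨a, rfl⟩)
  obtain ⟨b, hb⟩ := (hZ _).1 h1
  exact ⟨b, hb.symm⟩

theorem mem_of_nrm [Finite Y] (hZ : ∀ y, y ∈ Z ↔ ∃ a, z a = y) {g : Y} (hg : Nrm z g) :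
    g ∈ Subgroup.normalizer (Z : Set Y) := by
  rw [mem_normalizer_iff_cj]
  have h1 : cj g Z ≤ Z := by
    intro y hy
    rw [mem_cj] at hy
    obtain ⟨a, ha⟩ := (hZ _).1 hy
    obtain ⟨b, hb⟩ := hg a
    rw [ha] at hb
    have : y = g * (g⁻¹ * y * g) * g⁻¹ := by group
    rw [this, hb]
    exact (hZ _).2 ⟨b, rfl⟩
  refine Subgroup.eq_of_le_of_card_ge h1 ?_
  unfold cj
  rw [Nat.card_congr (Z.equivMapOfInjective (MulAut.conj g).toMonoidHom (MulAut.conj g).injective).toEquiv]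

end

section Main

variable {F : Type*} [Field F] {z : F → Y} {Z : Subgroup Y}

/-- **`Good p` from a root group datum.** -/
theorem rgd_good [Finite W] [Finite Y] [Fact p.Prime] (hp : 3 < p) [IsSimpleGroup Y] [Finite F] [CharP F p]
    (R : RGD cs h p T n X) (hG : GG cs h T X = ⊤) {θ : I → ℤ} (L : Long R θ Z)
    (z_add : ∀ a b, z (a + b) = z a * z b) (z_inj : Function.Injective z) (hZ : ∀ y, y ∈ Z ↔ ∃ a, z a = y)
    (hD : ∀ β σ, Diag T X β σ → Fix β (RGD.Sup X (RGD.Pos cs h)) → ∀ y ∈ Z, β y ∈ Z)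
    (hx3 : ∀ k, (∃ w, Rp cs R.nsys w k ∧ rep cs h w θ = -θ) → ∀ u ∈ cj k Z, u ≠ 1 →
      ∃ v ∈ Z, ∃ w' k', Rp cs R.nsys w' k' ∧ rep cs h w' θ = -θ ∧
        ∃ v' ∈ Subgroup.normalizer (Z : Set Y), u = v * k' * v')
    {J : Type*} (hh : J → Fˣ → Y) (e : J → (I → ℤ) → ℤ)
    (hS : ∀ j d w k, Rp cs R.nsys w k → Sc z (k⁻¹ * hh j d * k) ((d ^ e j (rep cs h w θ) : Fˣ) : F))
    (n1 : ∃ j, Odd (e j θ))
    (n2 : ∀ w, rep cs h w θ ≠ θ → rep cs h w θ ≠ -θ → ∃ j, Odd (e j θ - e j (rep cs h w θ)))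
    (n3 : ∀ w, rep cs h w θ ≠ θ → ∃ j, ¬ ((p : ℤ) - 1 ∣ e j θ - e j (rep cs h w θ))) : Good p Y := by
  have := Fintype.ofFinite W
  obtain ⟨w₀, hw₀⟩ := exists_neg (cs := cs) (h := h) L.root
  obtain ⟨x₀, hx₀⟩ := exists_rp cs R.nsys w₀
  have hw₀' : rep cs h w₀⁻¹ (-θ) = θ := by rw [← hw₀, rep_inv_apply]
  have hnr : ∀ {g : Y}, g ∈ Subgroup.normalizer (Z : Set Y) → Nrm z g := fun hg => nrm_of_mem hZ hg
  have hB : ∀ {b : Y}, b ∈ RGD.B cs h T X → Nrm z b := fun hb => hnr (L.B hb)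
  have hGm : ∀ g : Y, g ∈ GG cs h T X := fun g => by rw [hG]; exact Subgroup.mem_top _
  have hXn : X θ ≤ Subgroup.normalizer (Z : Set Y) := le_trans (RGD.X_le_B L.root L.r_nonneg) L.B
  have hWit : ∀ w k, Rp cs R.nsys w k → ∀ j, Wit z k (e j θ) (e j (rep cs h w θ)) := by
    intro w k hk j d
    refine ⟨hh j d, ?_, hS j d w k hk⟩
    have h1 := hS j d 1 1 (rp_one)
    rwa [map_one, Module.End.one_apply, inv_one, one_mul, mul_one] at h1
  have hz0 : z 0 = 1 := by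
    have := z_add 0 0
    rwa [add_zero, left_eq_mul] at this
  have hx2 : ∀ a, Nrm z (x₀ * z a * x₀⁻¹) → a = 0 := by
    intro a ha
    have h1 : x₀ * z a * x₀⁻¹ ∈ X (-θ) := by
      rw [← hw₀]; exact R.conj_mem hx₀ L.root (L.le ((hZ _).2 ⟨a, rfl⟩))
    have h2 := eq_one_of_opp L (hGm _) h1 (mem_of_nrm hZ ha)
    apply z_inj
    rw [hz0]
    exact mul_eq_left.1 (mul_inv_eq_one.1 h2)
  refine theta_good z_add z_inj hp ?_ ?_ ?_ {k | ∃ w, Rp cs R.nsys w k} ?_ x₀ ?_ ?_ ?_ ?_ hx2 ?_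
  · -- not abelian
    refine ⟨x₀, z 1, fun h1 => ?_⟩
    refine one_ne_zero (hx2 1 ?_)
    rw [h1, mul_inv_cancel_right]
    exact hnr (Subgroup.le_normalizer ((hZ _).2 ⟨1, rfl⟩))
  · -- canonical
    intro φ
    obtain ⟨g, σ, hU, hσ⟩ := exists_frame_aut R hG φ
    refine ⟨g, fun a => ?_⟩
    obtain ⟨b, hb⟩ := (hZ _).1 (hD _ σ hσ hU (z a) ((hZ _).2 ⟨a, rfl⟩))
    exact ⟨b, hb.symm⟩
  · -- index
    obtain ⟨S, hS⟩ := exists_sylow R hG
    refine ⟨S, fun u hu => hB ?_⟩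
    rw [hS] at hu
    exact RGD.U_le_B hu
  · -- Bruhat
    intro y
    obtain ⟨w, b₁, hb₁, k, hk, b₂, hb₂, e⟩ := (mem_GG R).1 (hGm y)
    refine ⟨b₁⁻¹, b₂⁻¹, hB (inv_mem hb₁), hB (inv_mem hb₂), w, ?_⟩
    have : b₁⁻¹ * y * b₂⁻¹ = k := by rw [e]; group
    rw [this]; exact hk
  · -- odd
    obtain ⟨j, hj⟩ := n1
    refine ⟨e j θ, hj, ?_⟩
    have h1 := hWit 1 1 rp_one j
    rwa [map_one, Module.End.one_apply] at h1
  · rintro k ⟨w, hk⟩
    by_cases h1 : rep cs h w θ = θ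
    · exact Or.inl (hnr ((L.mem_normalizer_iff hk).2 h1))
    by_cases h2 : rep cs h w θ = -θ
    · refine Or.inr (Or.inl (hnr ((L.mem_normalizer_iff (hx₀.inv.mul hk)).2 ?_)))
      rw [rep_mul_apply, h2, hw₀']
    obtain ⟨j, hj⟩ := n2 w h1 h2
    exact Or.inr (Or.inr ⟨_, _, hWit w k hk j, hj⟩)
  · rintro k ⟨w, hk⟩
    by_cases h1 : rep cs h w θ = θ
    · exact Or.inl (hnr ((L.mem_normalizer_iff hk).2 h1))
    obtain ⟨j, hj⟩ := n3 w h1
    exact Or.inr ⟨_, _, hWit w k hk j, hj⟩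
  · refine hnr ((L.mem_normalizer_iff (hx₀.mul hx₀)).2 ?_)
    rw [rep_mul_apply, hw₀, map_neg, hw₀, neg_neg]
  · intro a ha
    have h1 : x₀ * z a * x₀⁻¹ ≠ 1 := by
      intro h2
      exact ha (z_inj (by rw [hz0]; exact mul_eq_left.1 (mul_inv_eq_one.1 h2)))
    obtain ⟨v, hv, w', k', hk', hw', v', hv', e'⟩ := hx3 x₀ ⟨w₀, hx₀, hw₀⟩ _ (conj_mem_cj.2 ((hZ _).2 ⟨a, rfl⟩)) h1
    obtain ⟨b, hb⟩ := (hZ _).1 (inv_mem hv)
    refine ⟨b, hnr ?_⟩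
    have e1 : x₀⁻¹ * z b * x₀ * z a * x₀⁻¹ = (x₀⁻¹ * k') * v' := by
      calc x₀⁻¹ * z b * x₀ * z a * x₀⁻¹ = x₀⁻¹ * z b * (x₀ * z a * x₀⁻¹) := by group
        _ = (x₀⁻¹ * k') * v' := by rw [e', hb]; group
    rw [e1]
    refine mul_mem ((L.mem_normalizer_iff (hx₀.inv.mul hk')).2 ?_) hv'
    rw [rep_mul_apply, hw', hw₀']

end Main

end Cfsg.Agent.H443.RgdTheta
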