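import Mathlib
import Cfsg.Agent.H443.RgdTheta
import Cfsg.Agent.KFacts.RgdChevCoord
import Cfsg.Agent.Nodes.KindChev
import Cfsg.Agent.S1054
import Cfsg.Agent.S1055

/-!
# `Good p` for the groups `G₂(q)`, `E₆(q)`, `E₇(q)`, `E₈(q)`, `p ∣ q`, `p > 3` (helper443)

* `TD D l t d` : decidable facts about the highest root `t`;
* `good_of_td` : `Good p (D.group K)`, if the automorphisms of the frame fix the root group of `t`;
* `fix_of_cartan` : they do if they preserve the Cartan matrix;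
* `good_chev`.
-/

set_option autoImplicit false
set_option linter.unusedSectionVars false

namespace Cfsg.Agent.H443.GoodChev

open CoxeterSystem Cfsg.Agent.ChevalleyStructure.CoxeterGeom Cfsg.Agent.Tits.Roots Cfsg.Agent.Tits.Core
  Cfsg.Agent.Tits.Exchange Cfsg.Agent.Nodes.Reps Cfsg.Agent.Nodes.BNOf Cfsg.Agent.Nodes.StabComb
  Cfsg.Agent.Nodes.Bruhat Cfsg.Agent.Nodes.OppDec Cfsg.Agent.Nodes.LeviDec Cfsg.Agent.Nodes.NormX
  Cfsg.Agent.KFacts.RgdOpp Cfsg.Agent.KFacts.RgdAut Cfsg.Agent.KFacts.RgdDiag Cfsg.Agent.KFacts.RgdAutFacts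
  Cfsg.Agent.KFacts.RgdField Cfsg.Agent.KFacts.RgdChevCoord Cfsg.Agent.Nodes.RGDChev
  Cfsg.Agent.Nodes.KindChev Cfsg.Agent.H687 Cfsg.Agent.H443.RgdTheta
open Cfsg.Lie Cfsg.Agent.ChevalleyStructure Cfsg.Agent.ChevalleyStructure.Elts
  Cfsg.Agent.ChevalleyStructure.RootVec
  Cfsg.Agent.ChevalleyStructure.NPerm Cfsg.Agent.ChevalleyStructure.CoxeterGeomTypes

universe u

/-- Facts about the highest root `t`. -/
structure TD (D : ChevalleyDatum) (l t : ℕ) (d : Fin l → ℤ) : Prop where
  lt : t < D.nroots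
  hd : ∀ i j, d i * cartanOf D l i j = d j * cartanOf D l j i
  high : ∀ r < D.nroots, ∀ k : Fin l, vec D l r k ≤ vec D l t k
  dom : ∀ i : Fin l, 0 ≤ D.cartan i t
  n1 : ∃ j : Fin l, D.cartan j t % 2 = 1
  n2 : ∀ r < D.nroots, qf (cartanOf D l) d (vec D l r) (vec D l r) = qf (cartanOf D l) d (vec D l t) (vec D l t) →
    r ≠ t → r ≠ D.neg t → ∃ j : Fin l, (D.cartan j t - D.cartan j r) % 2 = 1
  n3 : ∀ r < D.nroots, qf (cartanOf D l) d (vec D l r) (vec D l r) = qf (cartanOf D l) d (vec D l t) (vec D l t) →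
    r ≠ t → ∃ j : Fin l, D.cartan j t - D.cartan j r ≠ 0 ∧ -4 < D.cartan j t - D.cartan j r ∧
      D.cartan j t - D.cartan j r < 4

section

variable {D : ChevalleyDatum} {l : ℕ} {M : CoxeterMatrix (Fin l)} (hp : IsType D l M) {K : Type u} [Field K]
  {W : Type*} [Group W] (cs : CoxeterSystem M W) {t : ℕ} {d : Fin l → ℤ}

theorem fullChar' (j : Fin l) {x : Fin l → ℤ} (hx : IsRoot cs hp.isCartan x) {a : K} (ha : a ≠ 0) :
    ch (K := K) hp x (hc hp j a) = a ^ pairing (cartanOf D l) j x := by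
  obtain ⟨r, hr, rfl⟩ := (isRoot_iff hp cs x).1 hx
  rw [ch_hc hp j ha hr, pairing_vec hp j hr]

include hp in
/-- a root group of a positive root commutes with the one of the highest root -/
theorem comm_high (T : TD D l t d) {r : ℕ} (hr : r < D.nroots) (h0 : 0 ≤ vec D l r) (hrt : r ≠ t) {u v : ↥(D.group K)}
    (hu : u ∈ XX D l K (vec D l r)) (hv : v ∈ XX D l K (vec D l t)) : u * v = v * u := by
  have hne : r ≠ D.neg t := by
    rintro rfl
    rw [vec_neg hp T.lt] at h0
    have h2 : vec D l t = 0 := by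
      funext k
      have h3 := h0 k
      have h4 := T.high _ (neg_lt hp.inList T.lt) k
      rw [vec_neg hp T.lt, Pi.neg_apply] at h4
      have h3' : 0 ≤ -(vec D l t k) := h3
      have h4' : -(vec D l t k) ≤ vec D l t k := h4
      show vec D l t k = 0
      omega
    let cs' : CoxeterSystem M M.Group := M.toCoxeterSystem
    exact (isRoot_vec hp cs' T.lt).ne_zero h2
  rw [Subgroup.mem_subgroupOf, XV_vec hp K hr, mem_rootSubgroup_iff hp.inList] at hu
  rw [Subgroup.mem_subgroupOf, XV_vec hp K T.lt, mem_rootSubgroup_iff hp.inList] at hv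
  obtain ⟨a, ha⟩ := hu
  obtain ⟨b, hb⟩ := hv
  have hnil : D.commTerms t r = [] := by
    rw [List.eq_nil_iff_forall_not_mem]
    rintro ⟨v, C, i, j⟩ hv
    obtain ⟨h1, -, -, h2, h3, h4⟩ := commTerms_rt hp.checked hv
    let cs' : CoxeterSystem M M.Group := M.toCoxeterSystem
    apply (isRoot_vec hp cs' hr).ne_zero
    funext k
    have h5 := h4 k
    have h6 := T.high v h1 k
    have h7 := h0 k
    rw [← vec_apply (l := l), ← vec_apply (l := l), ← vec_apply (l := l)] at h5
    have h8 := T.high _ (neg_lt hp.inList T.lt) k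
    rw [vec_neg hp T.lt, Pi.neg_apply] at h8
    rw [Pi.zero_apply] at h7 ⊢
    have h2' : (1 : ℤ) ≤ (i : ℤ) := by exact_mod_cast h2
    have h3' : (1 : ℤ) ≤ (j : ℤ) := by exact_mod_cast h3
    have h9 : 0 ≤ vec D l t k := by omega
    nlinarith
  have h1 := comm_xG hp T.lt hr hrt hne (K := K) (-b) (-a)
  have h2 : wordG hp.inList (D.commWord K t r (-b) (-a)) = 1 := by
    have : D.commWord K t r (-b) (-a) = [] := by
      unfold ChevalleyDatum.commWord
      rw [hnil]; rfl
    rw [this]; rfl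
  rw [h2, xG_inv, xG_inv, _root_.neg_neg, _root_.neg_neg, commutatorElement_eq_one_iff_mul_comm, ← ha, ← hb] at h1
  exact Subtype.ext h1

include cs in
theorem B_le_high [Finite K] {p : ℕ} [Fact p.Prime] [CharP K p] (T : TD D l t d) :
    RGD.B cs hp.isCartan (TT D K) (XX D l K) ≤ Subgroup.normalizer (XX D l K (vec D l t) : Set ↥(D.group K)) := by
  have R : RGD cs hp.isCartan p (TT D K) (nc hp K) (XX D l K) := rgd (K := K) hp cs p
  refine sup_le (fun s hs => ?_) (RGD.Sup_le fun x hx => ?_)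
  · rw [mem_normalizer_iff_cj]; exact R.tor _ (isRoot_vec hp cs T.lt) s hs
  · obtain ⟨hx, h0⟩ := hx
    obtain ⟨r, hr, rfl⟩ := (isRoot_iff hp cs x).1 hx
    by_cases hrt : r = t
    · subst hrt; exact Subgroup.le_normalizer
    · intro u hu
      rw [mem_normalizer_iff_cj]
      ext v
      rw [mem_cj]
      constructor
      · intro hv
        have h1 := comm_high hp T hr h0 hrt hu hv
        have h2 : v = u * (u⁻¹ * v * u) * u⁻¹ := by group
        rw [h2, h1]
        have h3 : u⁻¹ * v * u * u * u⁻¹ = u⁻¹ * v * u := by group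
        rw [h3]; exact hv
      · intro hv
        have h1 := comm_high hp T hr h0 hrt hu hv
        have h2 : u⁻¹ * v * u = v := by rw [mul_assoc, ← h1, inv_mul_cancel_left]
        rw [h2]; exact hv

/-- **`Good p` from the facts about the highest root.** -/
theorem good_of_td [Finite K] {p : ℕ} [Fact p.Prime] [CharP K p] (h3 : 3 < p) [IsSimpleGroup ↥(D.group K)]
    (T : TD D l t d)
    (hD : ∀ β σ, Diag (TT D K) (XX D l K) β σ → Fix β (RGD.Sup (XX D l K) (RGD.Pos cs hp.isCartan)) →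
      ∀ y ∈ XX D l K (vec D l t), β y ∈ XX D l K (vec D l t)) : Good p ↥(D.group K) := by
  have := finite_W hp cs
  have R : RGD cs hp.isCartan p (TT D K) (nc hp K) (XX D l K) := rgd (K := K) hp cs p
  have C := coords (K := K) hp cs p
  have hθ : IsRoot cs hp.isCartan (vec D l t) := isRoot_vec hp cs T.lt
  have hdom : Dom (cartanOf D l) (vec D l t) := fun i => by
    rw [pairing_vec hp i T.lt]; exact T.dom i
  have hG : GG cs hp.isCartan (TT D K) (XX D l K) = ⊤ := by
    have := gen (K := K) hp cs p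
    rw [eq_top_iff, ← this]
    exact sup_le (B_le_GG) (NN_le_GG R)
  have L : Long R (vec D l t) (XX D l K (vec D l t)) := long_X R hθ hdom (B_le_high hp cs (p := p) T)
  have hCθ := C.coord _ hθ
  have hpair : ∀ (w : W) (r : ℕ), r < D.nroots → rep cs hp.isCartan w (vec D l t) = vec D l r →
      ∀ j, pairing (cartanOf D l) j (rep cs hp.isCartan w (vec D l t)) = D.cartan j r := by
    intro w r hr e j
    rw [e, pairing_vec hp j hr]
  have hqf : ∀ (w : W) (r : ℕ), rep cs hp.isCartan w (vec D l t) = vec D l r →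
      qf (cartanOf D l) d (vec D l r) (vec D l r) = qf (cartanOf D l) d (vec D l t) (vec D l t) := by
    intro w r e
    rw [← e, qf_rep cs hp.isCartan T.hd]
  refine rgd_good (z := xc hp (vec D l t)) h3 R hG L hCθ.add hCθ.inj hCθ.mem hD ?_
    (fun (j : Fin l) (a : Kˣ) => hc hp j (a : K)) (fun j x => pairing (cartanOf D l) j x) ?_ ?_ ?_ ?_
  · rintro k ⟨w, hk, hw⟩ u hu hu1
    have hu' : u ∈ XX D l K (-vec D l t) := by
      rw [← hw, ← R.conj_rp hk hθ]; exact hu
    obtain ⟨v, hv, w', k', hk', hw', v', hv', e⟩ := rk1_root R hθ hu' hu1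
    exact ⟨v, hv, w', k', hk', hw', v', Subgroup.le_normalizer hv', e⟩
  · intro j a w k hk b
    have hT : hc hp j (a : K) ∈ TT D K := hc_mem hp j a.ne_zero
    have hT' : k⁻¹ * hc hp j (a : K) * k ∈ TT D K := by
      have := (Subgroup.mem_normalizer_iff.1 (inv_mem hk.mem_normalizer) (hc hp j (a : K))).1 hT
      rwa [inv_inv] at this
    rw [hCθ.act _ hT']
    congr 2
    have h1 := C.chi_rp R.nsys hk hθ hT'
    have h2 : k * (k⁻¹ * hc hp j (a : K) * k) * k⁻¹ = hc hp j (a : K) := by group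
    rw [h2, fullChar' hp cs j (hθ.act w) a.ne_zero] at h1
    rw [← h1, Units.val_zpow_eq_zpow_val]
  · obtain ⟨j, hj⟩ := T.n1
    refine ⟨j, ?_⟩
    show Odd (pairing (cartanOf D l) j (vec D l t))
    rw [pairing_vec hp j T.lt, Int.odd_iff]
    exact hj
  · intro w hw1 hw2
    obtain ⟨r, hr, e⟩ := (isRoot_iff hp cs _).1 (hθ.act w)
    obtain ⟨j, hj⟩ := T.n2 r hr (hqf w r e.symm) (fun h1 => hw1 (by rw [← e, h1]))
      (fun h1 => hw2 (by rw [← e, h1, vec_neg hp T.lt]))
    refine ⟨j, ?_⟩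
    show Odd (pairing (cartanOf D l) j (vec D l t) - pairing (cartanOf D l) j (rep cs hp.isCartan w (vec D l t)))
    rw [hpair w r hr e.symm, pairing_vec hp j T.lt, Int.odd_iff]
    exact hj
  · intro w hw1
    obtain ⟨r, hr, e⟩ := (isRoot_iff hp cs _).1 (hθ.act w)
    obtain ⟨j, hj0, hj1, hj2⟩ := T.n3 r hr (hqf w r e.symm) (fun h1 => hw1 (by rw [← e, h1]))
    refine ⟨j, ?_⟩
    show ¬ ((p : ℤ) - 1 ∣ pairing (cartanOf D l) j (vec D l t) -
      pairing (cartanOf D l) j (rep cs hp.isCartan w (vec D l t)))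
    rw [hpair w r hr e.symm, pairing_vec hp j T.lt]
    intro hdvd
    have hp5 : (5 : ℤ) ≤ p := by
      have h5 : p ≠ 4 := by
        rintro rfl
        have := (inferInstance : Fact (Nat.Prime 4)).out
        norm_num at this
      have : 5 ≤ p := by omega
      exact_mod_cast this
    have h4 := Int.natAbs_dvd_natAbs.2 hdvd
    have h6 := Nat.le_of_dvd (Int.natAbs_pos.2 hj0) h4
    omega

include hp cs in
/-- Frame automorphisms preserving the Cartan matrix fix the root group of the unique dominant root. -/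
theorem fix_of_cartan [Finite K] {p : ℕ} [Fact p.Prime] [CharP K p] (T : TD D l t d)
    (huniq : ∀ r < D.nroots, (∀ i : Fin l, 0 ≤ D.cartan i r) → r = t) {β : MulAut ↥(D.group K)} {σ : Equiv.Perm (Fin l)}
    (hβ : Diag (TT D K) (XX D l K) β σ) (hA : ∀ i j, cartanOf D l (σ i) (σ j) = cartanOf D l i j) :
    ∀ y ∈ XX D l K (vec D l t), β y ∈ XX D l K (vec D l t) := by
  have := finite_W hp cs
  have R : RGD cs hp.isCartan p (TT D K) (nc hp K) (XX D l K) := rgd (K := K) hp cs p
  have hθ : IsRoot cs hp.isCartan (vec D l t) := isRoot_vec hp cs T.lt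
  have hσ := hβ.matrix R
  have h1 : IsRoot cs hp.isCartan (vec D l t ∘ σ.symm) := by
    obtain ⟨w, i, e⟩ := hθ
    rw [e, ← rep_hat hσ hA, sr_comp]
    exact ⟨_, _, rfl⟩
  have h2 : vec D l t ∘ σ.symm = vec D l t := by
    obtain ⟨r, hr, e⟩ := (isRoot_iff hp cs _).1 h1
    rw [← e]
    congr 1
    apply huniq r hr
    intro i
    rw [← pairing_vec hp i hr, e]
    have h3 := pairing_comp (x := vec D l t) hA (σ.symm i)
    rw [Equiv.apply_symm_apply] at h3
    rw [h3, pairing_vec hp _ T.lt]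
    exact T.dom _
  intro y hy
  have h3 := (hβ.root_comp R hA hθ y).2 hy
  rwa [h2] at h3

include hp in
theorem cartan_of_matrix (h4 : ∀ i j, M i j ≠ 4) (h6 : ∀ i j, M i j ≠ 6) (σ : Equiv.Perm (Fin l))
    (hσ : ∀ i j, M (σ i) (σ j) = M i j) (i j : Fin l) : cartanOf D l (σ i) (σ j) = cartanOf D l i j := by
  by_cases hij : i = j
  · subst hij
    rw [hp.isCartan.diag, hp.isCartan.diag]
  have hij' : σ i ≠ σ j := fun h1 => hij (σ.injective h1)
  rcases hp.isCartan.rel i j hij with ⟨h1, h2, -⟩ | ⟨h1, h2, -⟩ | ⟨h1, -⟩ | ⟨h1, -⟩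
  · rcases hp.isCartan.rel _ _ hij' with ⟨h1', h2', -⟩ | ⟨h1', h2', -⟩ | ⟨h1', -⟩ | ⟨h1', -⟩
    · rw [h2, h2']
    · rw [hσ, h1] at h1'; omega
    · exact absurd h1' (h4 _ _)
    · exact absurd h1' (h6 _ _)
  · rcases hp.isCartan.rel _ _ hij' with ⟨h1', h2', -⟩ | ⟨h1', h2', -⟩ | ⟨h1', -⟩ | ⟨h1', -⟩
    · rw [hσ, h1] at h1'; omega
    · rw [h2, h2']
    · exact absurd h1' (h4 _ _)
    · exact absurd h1' (h6 _ _)
  · exact absurd h1 (h4 _ _)
  · exact absurd h1 (h6 _ _)

end

/-! ### the tables -/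

set_option backward.isDefEq.respectTransparency false in
theorem td6 : TD chevE6 6 71 (fun _ => 1) := by
  constructor <;> decide +kernel

set_option backward.isDefEq.respectTransparency false in
theorem td7 : TD chevE7 7 125 (fun _ => 1) := by
  constructor <;> decide +kernel

set_option backward.isDefEq.respectTransparency false in
theorem td8 : TD chevE8 8 239 (fun _ => 1) := by
  constructor <;> decide +kernel

set_option backward.isDefEq.respectTransparency false in
theorem td2 : TD chevG2 2 11 ![1, 3] := by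
  constructor <;> decide +kernel

set_option backward.isDefEq.respectTransparency false in
theorem uniq6 : ∀ r < chevE6.nroots, (∀ i : Fin 6, 0 ≤ chevE6.cartan i r) → r = 71 := by decide +kernel

set_option backward.isDefEq.respectTransparency false in
theorem uniq7 : ∀ r < chevE7.nroots, (∀ i : Fin 7, 0 ≤ chevE7.cartan i r) → r = 125 := by decide +kernel

set_option backward.isDefEq.respectTransparency false in
theorem uniq8 : ∀ r < chevE8.nroots, (∀ i : Fin 8, 0 ≤ chevE8.cartan i r) → r = 239 := by decide +kernel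

/-! ### `G₂` -/

theorem isType2 : IsType chevG2 2 CoxeterMatrix.G₂ := by simp [IsType, typeList]
theorem isType6 : IsType chevE6 6 CoxeterMatrix.E₆ := by simp [IsType, typeList]
theorem isType7 : IsType chevE7 7 CoxeterMatrix.E₇ := by simp [IsType, typeList]
theorem isType8 : IsType chevE8 8 CoxeterMatrix.E₈ := by simp [IsType, typeList]

theorem perm_two : ∀ σ : Equiv.Perm (Fin 2), σ = 1 ∨ (σ 0 = 1 ∧ σ 1 = 0) := by decide

set_option backward.isDefEq.respectTransparency false in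
theorem refl_g2 : chevG2.simple 0 = 7 ∧ chevG2.simple 1 = 6 ∧ chevG2.reflectRoot 0 6 = 10 ∧
    chevG2.reflectRoot 1 10 = 11 ∧ chevG2.reflectRoot 1 7 = 8 ∧ chevG2.reflectRoot 0 8 = 9 ∧ chevG2.nroots = 12 ∧
    chevG2.neg 9 = 2 ∧ (∀ k : Fin 2, 0 ≤ vec chevG2 2 6 k) := by
  decide +kernel

set_option backward.isDefEq.respectTransparency false in
theorem comm_g2 : chevG2.commTerms 9 7 = [(10, -3, 1, 1)] := by decide +kernel

theorem not_commute_g2 {K : Type u} [Field K] (h3 : (3 : K) ≠ 0) :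
    (xG isType2.inList 7 (1 : K)) * xG isType2.inList 9 (1 : K) ≠
      xG isType2.inList 9 (1 : K) * xG isType2.inList 7 (1 : K) := by
  obtain ⟨-, -, -, -, -, -, e12, e9, -⟩ := refl_g2
  intro hc
  have h1 := comm_xG isType2 (r := 9) (s := 7) (by rw [e12]; norm_num) (by rw [e12]; norm_num) (by norm_num)
    (by rw [e9]; norm_num) (K := K) (-1) (-1)
  rw [xG_inv, xG_inv, _root_.neg_neg, commutatorElement_eq_one_iff_mul_comm.2 hc] at h1
  have h2 : chevG2.commWord K 9 7 (-1) (-1) = [(10, 3)] := by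
    unfold ChevalleyDatum.commWord
    rw [comm_g2]
    simp
  rw [h2, wordG_cons, wordG_nil, mul_one] at h1
  rw [← xG_zero isType2.inList 10] at h1
  exact h3 (xG_injective isType2.inList (by rw [e12]; norm_num) h1).symm

theorem g2_diag {K : Type u} [Field K] [Finite K] {p : ℕ} [Fact p.Prime] [CharP K p] (h3 : 3 < p)
    {β : MulAut ↥(chevG2.group K)} {σ : Equiv.Perm (Fin 2)} (hβ : Diag (TT chevG2 K) (XX chevG2 2 K) β σ) : σ = 1 := by
  rcases perm_two σ with h1 | ⟨hσ0, hσ1⟩
  · exact h1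
  exfalso
  let cs : CoxeterSystem CoxeterMatrix.G₂ CoxeterMatrix.G₂.Group := CoxeterMatrix.G₂.toCoxeterSystem
  have := finite_W isType2 cs
  have R : RGD cs isType2.isCartan p (TT chevG2 K) (nc isType2 K) (XX chevG2 2 K) := rgd (K := K) isType2 cs p
  have hσ := hβ.matrix R
  obtain ⟨e0, e1, e2, e3, e4, e5, e12, e9, e6⟩ := refl_g2
  have hs0 : (sr 0 : Fin 2 → ℤ) = vec chevG2 2 7 := by
    rw [← vec_simple isType2 0]
    show vec chevG2 2 (chevG2.simple 0) = _
    rw [e0]
  have hs1 : (sr 1 : Fin 2 → ℤ) = vec chevG2 2 6 := by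
    rw [← vec_simple isType2 1]
    show vec chevG2 2 (chevG2.simple 1) = _
    rw [e1]
  have hw : rep cs isType2.isCartan (cs.simple 1 * cs.simple 0) (sr 1) = vec chevG2 2 11 := by
    rw [rep_mul_apply, hs1, rep_vec isType2 cs 0 (by rw [e12]; norm_num)]
    show rep cs isType2.isCartan (cs.simple 1) (vec chevG2 2 (chevG2.reflectRoot 0 6)) = _
    rw [e2, rep_vec isType2 cs 1 (by rw [e12]; norm_num)]
    show vec chevG2 2 (chevG2.reflectRoot 1 10) = _
    rw [e3]
  have hw' : rep cs isType2.isCartan (hat cs σ hσ (cs.simple 1 * cs.simple 0)) (sr (σ 1)) = vec chevG2 2 9 := by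
    rw [map_mul, hat_simple, hat_simple, hσ0, hσ1, rep_mul_apply, hs0, rep_vec isType2 cs 1 (by rw [e12]; norm_num)]
    show rep cs isType2.isCartan (cs.simple 0) (vec chevG2 2 (chevG2.reflectRoot 1 7)) = _
    rw [e4, rep_vec isType2 cs 0 (by rw [e12]; norm_num)]
    show vec chevG2 2 (chevG2.reflectRoot 0 8) = _
    rw [e5]
  have hroot := hβ.root R hσ (cs.simple 1 * cs.simple 0) 1
  rw [hw, hw'] at hroot
  have hpos := hβ.pos 1
  rw [hσ1, hs0, hs1] at hpos
  -- elements
  have hx9 : (⟨xG isType2.inList 9 1, xG_mem_group isType2.inList 9 1⟩ : ↥(chevG2.group K)) ∈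
      XX chevG2 2 K (vec chevG2 2 9) := by
    rw [Subgroup.mem_subgroupOf, XV_vec isType2 K (by rw [e12]; norm_num)]
    exact xG_mem_rootSubgroup isType2.inList 9 1
  have hx7 : (⟨xG isType2.inList 7 1, xG_mem_group isType2.inList 7 1⟩ : ↥(chevG2.group K)) ∈
      XX chevG2 2 K (vec chevG2 2 7) := by
    rw [Subgroup.mem_subgroupOf, XV_vec isType2 K (by rw [e12]; norm_num)]
    exact xG_mem_rootSubgroup isType2.inList 7 1
  have hu := (hroot (β⁻¹ _)).1 (by rw [MulAut.apply_inv_self]; exact hx9)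
  have hv := (hpos (β⁻¹ _)).1 (by rw [MulAut.apply_inv_self]; exact hx7)
  have h1 := comm_high isType2 td2 (by rw [e12]; norm_num) (fun k => e6 k) (by norm_num) hv hu
  have h2 := congrArg β h1
  rw [map_mul, map_mul, MulAut.apply_inv_self, MulAut.apply_inv_self] at h2
  have h3' : (3 : K) ≠ 0 := by
    intro h0
    have h4 : ((3 : ℕ) : K) = 0 := by exact_mod_cast h0
    rw [CharP.cast_eq_zero_iff K p] at h4
    have := Nat.le_of_dvd (by norm_num) h4
    omega
  exact not_commute_g2 h3' (congrArg Subtype.val h2)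

/-! ### the theorem -/

set_option backward.isDefEq.respectTransparency false in
theorem h46_6 : ∀ i j : Fin 6, CoxeterMatrix.E₆ i j ≠ 4 ∧ CoxeterMatrix.E₆ i j ≠ 6 := by decide
set_option backward.isDefEq.respectTransparency false in
theorem h46_7 : ∀ i j : Fin 7, CoxeterMatrix.E₇ i j ≠ 4 ∧ CoxeterMatrix.E₇ i j ≠ 6 := by decide
set_option backward.isDefEq.respectTransparency false in
theorem h46_8 : ∀ i j : Fin 8, CoxeterMatrix.E₈ i j ≠ 4 ∧ CoxeterMatrix.E₈ i j ≠ 6 := by decide

theorem good_SL {D : ChevalleyDatum} {l : ℕ} {M : CoxeterMatrix (Fin l)} (hp : IsType D l M) {K : Type u} [Field K]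
    [Finite K] {p : ℕ} [Fact p.Prime] [CharP K p] (h3 : 3 < p) (hD : D ∈ [chevD4, chevF4, chevE6, chevE7, chevE8])
    {t : ℕ} {d : Fin l → ℤ} (T : TD D l t d)
    (huniq : ∀ r < D.nroots, (∀ i : Fin l, 0 ≤ D.cartan i r) → r = t)
    (h46 : ∀ i j, M i j ≠ 4 ∧ M i j ≠ 6) : Good p ↥(D.group K) := by
  have := (Cfsg.Agent.S1054.result (F := K) D hD).1
  let cs : CoxeterSystem M M.Group := M.toCoxeterSystem
  have := finite_W hp cs
  refine good_of_td hp cs h3 T fun β σ hβ _ => ?_
  have R : RGD cs hp.isCartan p (TT D K) (nc hp K) (XX D l K) := rgd (K := K) hp cs p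
  exact fix_of_cartan hp cs (p := p) T huniq hβ
    (cartan_of_matrix hp (fun i j => (h46 i j).1) (fun i j => (h46 i j).2) σ (hβ.matrix R))

theorem good_G2 {K : Type u} [Field K] [Finite K] {p : ℕ} [Fact p.Prime] [CharP K p] (h3 : 3 < p) :
    Good p ↥(chevG2.group K) := by
  have : IsSimpleGroup ↥(chevG2.group K) := by
    refine (Cfsg.Agent.S1055.result (F := K) ⟨2, ?_, ?_⟩).1
    · intro h0
      have h4 : ((2 : ℕ) : K) = 0 := by exact_mod_cast h0
      rw [CharP.cast_eq_zero_iff K p] at h4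
      have := Nat.le_of_dvd (by norm_num) h4
      omega
    · intro h0
      have h5 : (2 : K) = 1 + 1 := by norm_num
      rw [h5] at h0
      exact one_ne_zero (add_eq_left.1 h0)
  let cs : CoxeterSystem CoxeterMatrix.G₂ CoxeterMatrix.G₂.Group := CoxeterMatrix.G₂.toCoxeterSystem
  have := finite_W isType2 cs
  refine good_of_td isType2 cs h3 td2 fun β σ hβ _ => ?_
  have R : RGD cs isType2.isCartan p (TT chevG2 K) (nc isType2 K) (XX chevG2 2 K) := rgd (K := K) isType2 cs p
  have hσ := g2_diag h3 hβ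
  subst hσ
  intro y hy
  have h1 := hβ.root_comp R (fun _ _ => rfl) (isRoot_vec isType2 cs td2.lt) y
  exact h1.2 hy

/-- **Rows G₂, E₆, E₇, E₈.** -/
theorem good_chev {p : ℕ} [Fact p.Prime] (hp : 3 < p) {F : Type u} [Field F] [Finite F] [CharP F p]
    (D : Cfsg.Lie.ChevalleyDatum)
    (hD : D ∈ [Cfsg.Lie.chevG2, Cfsg.Lie.chevE6, Cfsg.Lie.chevE7, Cfsg.Lie.chevE8]) :
    Cfsg.Agent.H687.Good p ↥(D.group F) := by
  simp only [List.mem_cons, List.not_mem_nil, or_false] at hD
  rcases hD with rfl | rfl | rfl | rfl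
  · exact good_G2 hp
  · exact good_SL isType6 hp (by simp) td6 uniq6 h46_6
  · exact good_SL isType7 hp (by simp) td7 uniq7 h46_7
  · exact good_SL isType8 hp (by simp) td8 uniq8 h46_8

end Cfsg.Agent.H443.GoodChev
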