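import Cfsg.Agent.Transfer.Residual
import Cfsg.Agent.Lib.CoprimeHyperplane
import Cfsg.Agent.Lib.CoprimeStab
import Cfsg.Agent.Lib.CoprimeCommutator

/-!
# `O^p(L)` for a subgroup `L` of an ambient group, and minimal non-centralised invariant subgroups
-/

set_option autoImplicit false

namespace Cfsg.Agent.H443.RelResidual

open Subgroup Cfsg
open scoped commutatorElement

variable {G : Type*} [Group G]

/-- A `p'`-element of `L` lies in `O^p(L)`. -/
theorem mem_of_coprime {p : ℕ} {L : Subgroup G} {g : G} (hg : g ∈ L) (h : (orderOf g).Coprime p) :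
    g ∈ (pResidual p L).map L.subtype := by
  refine ⟨⟨g, hg⟩, ?_, rfl⟩
  refine Transfer.Residual.mem_pResidual_of_coprime ?_
  rwa [Subgroup.orderOf_mk]

/-- `O^p(L) ≤ L` -/
theorem le_self (p : ℕ) (L : Subgroup G) : (pResidual p L).map L.subtype ≤ L := map_subtype_le _

/-- `L` normalises `O^p(L)` -/
theorem le_normalizer (p : ℕ) (L : Subgroup G) :
    L ≤ normalizer (((pResidual p L).map L.subtype : Subgroup G) : Set G) := by
  have := Transfer.Residual.pResidual_normal (G := L) p
  intro l hl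
  rw [mem_normalizer_iff]
  intro x
  constructor
  · rintro ⟨y, hy, rfl⟩
    exact ⟨⟨l, hl⟩ * y * ⟨l, hl⟩⁻¹, this.conj_mem y hy _, rfl⟩
  · rintro ⟨y, hy, hxy⟩
    have h1 : x = l⁻¹ * (l * x * l⁻¹) * l := by group
    rw [h1, ← hxy]
    refine ⟨⟨l, hl⟩⁻¹ * y * ⟨l, hl⟩, ?_, rfl⟩
    have := this.conj_mem y hy ⟨l, hl⟩⁻¹
    simpa using this

/-- If `L = A D` with `A` a `p`-group and `D` normal in `L`, then `O^p(L) ≤ D`. -/
theorem le_of_sup {p : ℕ} [Fact p.Prime] {L A D : Subgroup G} (hA : IsPGroup p A)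
    (hAL : A ≤ L) (hDL : D ≤ L) (hD : L ≤ normalizer (D : Set G)) (h : L ≤ A ⊔ D) :
    (pResidual p L).map L.subtype ≤ D := by
  have hn : (D.subgroupOf L).Normal := normal_subgroupOf_iff_le_normalizer hDL |>.2 hD
  have hP : IsPGroup p (L ⧸ D.subgroupOf L) := by
    have hA' : IsPGroup p (A.subgroupOf L) := hA.comap_subtype
    have hsurj : Function.Surjective
        ((QuotientGroup.mk' (D.subgroupOf L)).comp (A.subgroupOf L).subtype) := by
      rw [← MonoidHom.range_eq_top, MonoidHom.range_comp, range_subtype]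
      have h1 : A.subgroupOf L ⊔ D.subgroupOf L = ⊤ := by
        rw [← subgroupOf_sup hAL hDL, subgroupOf_eq_top]
        exact h
      have h2 := congrArg (Subgroup.map (QuotientGroup.mk' (D.subgroupOf L))) h1
      rw [Subgroup.map_sup, QuotientGroup.map_mk'_self, sup_bot_eq,
        Subgroup.map_top_of_surjective _ (QuotientGroup.mk'_surjective _)] at h2
      exact h2
    exact hA'.of_surjective _ hsurj
  have h1 := Transfer.Residual.pResidual_le_of_isPGroup_quotient hP
  rintro _ ⟨x, hx, rfl⟩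
  exact h1 hx

/-- Let the elementary abelian `p`-group `A ≠ 1` act faithfully on the `p'`-group `W`.  Then there
are a hyperplane `B` of `A` and an `A`-invariant subgroup `X` of `C_W(B)`, not centralised by `A`,
such that `X = [A, x]` for every element `x` of `X` not centralised by `A`. -/
theorem exists_minimal [Finite G] {p : ℕ} [Fact p.Prime] {A W : Subgroup G}
    (hA : IsElementaryAbelian p A) (hA1 : A ≠ ⊥) (hW : ¬ p ∣ Nat.card W)
    (hAW : A ≤ normalizer (W : Set G)) (hf : A ⊓ centralizer (W : Set G) = ⊥) :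
    ∃ B X : Subgroup G, B ≤ A ∧ B.relIndex A = p ∧ X ≤ W ∧ X ≤ centralizer (B : Set G) ∧
      A ≤ normalizer (X : Set G) ∧ ¬ A ≤ centralizer (X : Set G) ∧
      ∀ x ∈ X, (¬ ∀ a ∈ A, Commute a x) → X ≤ closure {g | ∃ a ∈ A, g = ⁅a, x⁆} := by
  classical
  obtain ⟨a, ha, ha1⟩ := (bot_or_exists_ne_one A).resolve_left hA1
  obtain ⟨B, hBA, hBi, -, hne⟩ := Lib.CoprimeHyperplane.exists_hyperplane_not_mem hA hW hAW hf ha ha1
  have := hA.1
  have hcomm : ∀ x ∈ A, ∀ y ∈ A, x * y = y * x := fun x hx y hy =>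
    setLike_mul_comm hx hy
  have hpA : IsPGroup p A := fun a => ⟨1, by
    ext; simpa using hA.2 a a.2⟩
  let P : Subgroup G → Prop := fun X => X ≤ W ⊓ centralizer (B : Set G) ∧
    A ≤ normalizer (X : Set G) ∧ ¬ A ≤ centralizer (X : Set G)
  have hP0 : P (W ⊓ centralizer (B : Set G)) := by
    refine ⟨le_rfl, ?_, ?_⟩
    · intro a ha
      rw [mem_normalizer_iff]
      intro g
      have h1 := mem_normalizer_iff.1 (hAW ha) g
      have h2 : g ∈ centralizer (B : Set G) ↔ a * g * a⁻¹ ∈ centralizer (B : Set G) := by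
        rw [mem_centralizer_iff, mem_centralizer_iff]
        refine forall₂_congr fun b hb => ?_
        have hab : a * b = b * a := hcomm a ha b (hBA hb)
        have hab' : a⁻¹ * b = b * a⁻¹ := by
          rw [inv_mul_eq_iff_eq_mul, ← mul_assoc, hab, mul_inv_cancel_right]
        constructor
        · intro h
          calc b * (a * g * a⁻¹) = (b * a) * g * a⁻¹ := by group
            _ = a * (b * g) * a⁻¹ := by rw [← hab]; group
            _ = a * g * (b * a⁻¹) := by rw [h]; group
            _ = a * g * a⁻¹ * b := by rw [← hab']; group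
        · intro h
          have h3 : a * (b * g) * a⁻¹ = a * (g * b) * a⁻¹ := by
            calc a * (b * g) * a⁻¹ = (a * b) * g * a⁻¹ := by group
              _ = b * (a * g * a⁻¹) := by rw [hab]; group
              _ = a * g * a⁻¹ * b := h
              _ = a * g * (a⁻¹ * b) := by group
              _ = a * (g * b) * a⁻¹ := by rw [hab']; group
          exact mul_left_cancel (mul_right_cancel h3)
      rw [mem_inf, mem_inf, h1, h2]
    · intro h
      apply hne
      rw [commutator_comm]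
      exact commutator_eq_bot_iff_le_centralizer.2 h
  obtain ⟨X, hXle, hXmin⟩ := exists_minimal_le_of_wellFoundedLT P _ hP0
  have hX : P X := hXmin.prop
  refine ⟨B, X, hBA, hBi, hX.1.trans inf_le_left, hX.1.trans inf_le_right, hX.2.1, hX.2.2, ?_⟩
  intro x hx hnx
  set K : Subgroup G := closure {g | ∃ a ∈ A, g = ⁅a, x⁆} with hK
  have hmemK : ∀ a ∈ A, ⁅a, x⁆ ∈ K := fun a ha => subset_closure ⟨a, ha, rfl⟩
  have hKX : K ≤ X := by
    rw [hK, closure_le]
    rintro _ ⟨a, ha, rfl⟩
    rw [commutatorElement_def]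
    exact mul_mem ((mem_normalizer_iff.1 (hX.2.1 ha) x).1 hx) (inv_mem hx)
  have hAK : A ≤ normalizer (K : Set G) := by
    have key : ∀ b ∈ A, ∀ g ∈ K, b * g * b⁻¹ ∈ K := by
      intro b hb g hg
      rw [hK] at hg
      induction hg using closure_induction with
      | mem y hy =>
        obtain ⟨a, ha, rfl⟩ := hy
        have h1 : b * ⁅a, x⁆ * b⁻¹ = ⁅b * a, x⁆ * ⁅b, x⁆⁻¹ := by
          simp only [commutatorElement_def]; group
        rw [h1]
        exact mul_mem (hmemK _ (mul_mem hb ha)) (inv_mem (hmemK _ hb))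
      | one => simp
      | mul y z _ _ hy hz =>
        have h1 : b * (y * z) * b⁻¹ = (b * y * b⁻¹) * (b * z * b⁻¹) := by group
        rw [h1]; exact mul_mem hy hz
      | inv y _ hy =>
        have h1 : b * y⁻¹ * b⁻¹ = (b * y * b⁻¹)⁻¹ := by group
        rw [h1]; exact inv_mem hy
    intro b hb
    rw [mem_normalizer_iff]
    intro g
    refine ⟨key b hb g, fun h => ?_⟩
    have h2 := key b⁻¹ (inv_mem hb) _ h
    have h1 : b⁻¹ * (b * g * b⁻¹) * b⁻¹⁻¹ = g := by group
    rwa [h1] at h2
  have hnK : ¬ A ≤ centralizer (K : Set G) := by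
    intro hc
    apply hnx
    intro a ha
    have hcop : (orderOf a).Coprime (Nat.card X) := by
      obtain ⟨k, hk⟩ := hpA ⟨a, ha⟩
      have h1 : orderOf a ∣ p ^ k := by
        refine orderOf_dvd_of_pow_eq_one ?_
        simpa [Subtype.ext_iff] using hk
      refine Nat.Coprime.coprime_dvd_left h1 (Nat.Coprime.pow_left k ?_)
      rw [Nat.Prime.coprime_iff_not_dvd (Fact.out)]
      exact fun h => hW (h.trans (card_dvd_of_le (hX.1.trans inf_le_left)))
    have h1 : ⁅x, a⁆ ∈ K := by
      rw [← commutatorElement_inv]; exact inv_mem (hmemK a ha)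
    have h2 : Commute ⁅x, a⁆ a := mem_centralizer_iff.1 (hc ha) _ h1
    exact (Lib.CoprimeStab.commute_of_commutator_commute hcop (hKX h1) h2).symm
  exact hXmin.le_of_le ⟨hKX.trans hX.1, hAK, hnK⟩ hKX

end Cfsg.Agent.H443.RelResidual
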